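import Cfsg.Agent.H699.K547.AltInv
import Cfsg.Agent.H473.K547.Alt

/-!
# S4547, task 5022: the row of the alternating groups (helper699)
-/

set_option autoImplicit false

namespace Cfsg.Agent.H699.K547

open Cfsg Equiv Equiv.Perm
open Cfsg.Agent.H601.K4 Cfsg.Agent.H970.K4 Cfsg.Agent.H821.K547

/-- `A_7` -/
theorem xcond_seven : XCond (alternatingGroup (Fin 7)) := by
  have hx : (swap 0 1 * swap 1 2 * swap 2 3 * swap 4 5 : Perm (Fin 7)) ∈ alternatingGroup (Fin 7) := by
    rw [mem_alternatingGroup]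
    decide +kernel
  refine ⟨⟨_, hx⟩, 2, ?_, ?_⟩
  · refine orderOf_eq_prime_pow (p := 2) (n := 1) ?_ ?_
    · intro h
      have h1 : (swap 0 1 * swap 1 2 * swap 2 3 * swap 4 5 : Perm (Fin 7)) ^ 2 ^ 1 = 1 := congrArg Subtype.val h
      exact absurd h1 (by decide +kernel)
    · apply Subtype.ext
      show (swap 0 1 * swap 1 2 * swap 2 3 * swap 4 5 : Perm (Fin 7)) ^ 2 ^ 2 = 1
      decide +kernel
  · intro h
    have h1 := h.trans (Subgroup.card_subgroup_dvd_card _)
    rw [nat_card_alternatingGroup, Nat.card_fin] at h1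
    revert h1
    decide

/-- the outer automorphisms -/
theorem autExt_eq_top {n : ℕ} (hn : 7 ≤ n) {τ : MulAut (alternatingGroup (Fin n))} (hτ : ¬ IsInn τ) : AutExt τ = ⊤ := by
  have hb := S2119.result n (by omega) (by omega)
  obtain ⟨t, rfl⟩ := hb.surjective τ
  have hin : ∀ s : Perm (Fin n), s ∈ alternatingGroup (Fin n) →
      (MulAut.conjNormal s : MulAut (alternatingGroup (Fin n))) ∈
        (MulAut.conj : alternatingGroup (Fin n) →* MulAut (alternatingGroup (Fin n))).range := fun s hs =>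
    ⟨⟨s, hs⟩, by ext x; rfl⟩
  have ht : sign t = -1 := by
    rcases Int.units_eq_one_or (sign t) with h | h
    · exfalso
      exact hτ ⟨⟨t, h⟩, fun x => by apply Subtype.ext; rfl⟩
    · exact h
  rw [eq_top_iff]
  rintro ψ -
  obtain ⟨s, rfl⟩ := hb.surjective ψ
  rcases Int.units_eq_one_or (sign s) with h | h
  · exact (le_sup_left : _ ≤ AutExt _) (hin s h)
  · have h1 : (MulAut.conjNormal s : MulAut (alternatingGroup (Fin n))) =
        MulAut.conjNormal (s * t⁻¹) * MulAut.conjNormal t := by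
      rw [← map_mul, inv_mul_cancel_right]
    rw [h1]
    refine mul_mem ((le_sup_left : _ ≤ AutExt _) (hin _ ?_)) ((le_sup_right : _ ≤ AutExt _)
      (Subgroup.mem_zpowers _))
    rw [mem_alternatingGroup, Perm.sign_mul, Perm.sign_inv, h, ht]
    rfl

/-- `Aut A_n = S_n` -/
noncomputable def autEquiv {n : ℕ} (hn : 7 ≤ n) : Perm (Fin n) ≃* MulAut (alternatingGroup (Fin n)) :=
  MulEquiv.ofBijective (MulAut.conjNormal : Perm (Fin n) →* MulAut (alternatingGroup (Fin n)))
    (S2119.result n (by omega) (by omega))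

theorem d3_autExt {n : ℕ} (hn : 7 ≤ n) {τ : MulAut (alternatingGroup (Fin n))} (hτ : ¬ IsInn τ) : D3 (AutExt τ) := by
  have : Fact (Nat.Prime 2) := ⟨Nat.prime_two⟩
  have e : Perm (Fin n) ≃* AutExt τ :=
    (autEquiv hn).trans (Subgroup.topEquiv.symm.trans (MulEquiv.subgroupCongr (autExt_eq_top hn hτ).symm))
  refine H473.K547.d3_of_elementary_quot e.toMonoidHom e.surjective
    (fun P x => (Cfsg.Agent.S4623.result 2 n P default).1 x)
    (E := (e.toMonoidHom.comp (H473.K547.homS (n := n) (by omega))).range) ?_ ?_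
  · rw [← Nat.card_congr (MonoidHom.ofInjective (f := e.toMonoidHom.comp (H473.K547.homS (n := n) (by omega)))
      (e.injective.comp (H473.K547.homS_injective (by omega)))).toEquiv, H473.K547.card_V8]
  · rintro _ ⟨v, rfl⟩
    rw [← map_pow, H473.K547.sq_V8, map_one]

/-- **The row of the alternating groups.** -/
theorem row_alternating {n : ℕ} (hn : 7 ≤ n) : Row (alternatingGroup (Fin n)) where
  base := by
    rcases hn.eq_or_lt with rfl | h
    · exact Or.inr xcond_seven
    · exact Or.inl ⟨good5_alt h, H473.K547.d3_alt h⟩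
  ext τ _ hτ := ⟨fun _ => d3_autExt hn hτ, fun _ => ginv3_alt hn τ⟩

end Cfsg.Agent.H699.K547
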